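import Groth.Agent.CanPar.K795.Iface2
import Groth.Agent.CanPar.K544.IsoInner
import Groth.Agent.Sga3B.Pts
import Groth.Agent.Sga3B.RedBcAny636

/-!
# `IsoInner` on points

The interface statement `InnerPt`, deduced from `IsoInner`: the isomorphism `f` between the base changes of `G₀` and `G`
to the function field is transported to the fraction field of the valuation ring through points.
-/

set_option autoImplicit false
universe u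

open CategoryTheory CategoryTheory.Limits MonoidalCategory CartesianMonoidalCategory MonObj GrpObj AlgebraicGeometry

namespace K112.InnerPt

open Groth.Agent.Sga3B Groth.Agent.CanPar.K795.Iface

lemma bcPt_comp {S X : Scheme.{u}} (c : X ⟶ S) {G H : Over S} [GrpObj G] [GrpObj H] {T : Scheme.{u}} (t : T ⟶ X)
    (s : T ⟶ S) (h : s = t ≫ c) (y : Over.mk s ⟶ G) (φ : G ⟶ H) :
    bcPt c G t s h y ≫ (Over.pullback c).map φ = bcPt c H t s h (y ≫ φ) := by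
  ext1
  refine pullback.hom_ext ?_ ?_
  · rw [bcPt_fst]
    simp only [Over.comp_left, Over.pullback_map_left, Category.assoc]
    refine (congrArg _ (pullback.lift_fst _ _ _)).trans ?_
    rw [← Category.assoc]
    exact congrArg (· ≫ φ.left) (bcPt_fst c G t s h y)
  · simp only [Over.comp_left, Over.pullback_map_left, Category.assoc]
    refine (congrArg _ (pullback.lift_snd _ _ _)).trans ?_
    exact (pullback.lift_snd _ _ _).trans (pullback.lift_snd _ _ _).symm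

section Sq

variable {S Z Y W V : Scheme.{u}} {a : Z ⟶ S} {G₀ : Over S} [GrpObj G₀] {G : Over Z} [GrpObj G] {m : Y ⟶ Z} {o : W ⟶ Z}
  {l : V ⟶ Y} {j : V ⟶ W}

/-- iterated base change on points -/
noncomputable def dbl {S W V : Scheme.{u}} (c : W ⟶ S) (j : V ⟶ W) (G : Over S) [GrpObj G] {T : Scheme.{u}} (t : T ⟶ V)
    (s : T ⟶ S) (h : s = (t ≫ j) ≫ c) : (Over.mk s ⟶ G) ≃* (Over.mk t ⟶ Red.bc j (Red.bc c G)) :=
  (bcPt c G (t ≫ j) s h).trans (bcPt j (Red.bc c G) t (t ≫ j) rfl)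

lemma dbl_nat {S W V : Scheme.{u}} (c : W ⟶ S) (j : V ⟶ W) (G : Over S) [GrpObj G] {T T' : Scheme.{u}} (t : T ⟶ V)
    (s : T ⟶ S) (h : s = (t ≫ j) ≫ c) (φ : T' ⟶ T) (t' : T' ⟶ V) (s' : T' ⟶ S) (ht : φ ≫ t = t') (hs : φ ≫ s = s')
    (h' : s' = (t' ≫ j) ≫ c) (g : Over.mk s ⟶ G) :
    dbl c j G t' s' h' ((Over.homMk φ hs : Over.mk s' ⟶ Over.mk s) ≫ g) =
      (Over.homMk φ ht : Over.mk t' ⟶ Over.mk t) ≫ dbl c j G t s h g := by
  have ht2 : φ ≫ t ≫ j = t' ≫ j := by rw [← ht, Category.assoc]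
  change bcPt j (Red.bc c G) t' (t' ≫ j) rfl (bcPt c G (t' ≫ j) s' h' _) = _
  rw [bcPt_nat c G (t ≫ j) s h φ (t' ≫ j) s' ht2 hs h' g, bcPt_nat j (Red.bc c G) t (t ≫ j) rfl φ t' (t' ≫ j) ht ht2 rfl]
  rfl

/-- the transported isomorphism on points -/
noncomputable def trP (hl : l ≫ m = j ≫ o) (f : Red.bc (m ≫ a) G₀ ≅ Red.bc m G) (hf : IsMonHom f.hom) {T : Scheme.{u}}
    (t : T ⟶ V) : (Over.mk t ⟶ Red.bc j (Red.bc (o ≫ a) G₀)) ≃* (Over.mk t ⟶ Red.bc j (Red.bc o G)) :=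
  ((dbl (o ≫ a) j G₀ t ((t ≫ j) ≫ o ≫ a) rfl).symm.trans
    (tr f hf (t ≫ l) ((t ≫ j) ≫ o) ((t ≫ j) ≫ o ≫ a) (by rw [Category.assoc, Category.assoc, hl])
      (by simp only [Category.assoc]))).trans (dbl o j G t ((t ≫ j) ≫ o) rfl)

lemma trP_apply (hl : l ≫ m = j ≫ o) (f : Red.bc (m ≫ a) G₀ ≅ Red.bc m G) (hf : IsMonHom f.hom) {T : Scheme.{u}}
    (t : T ⟶ V) (z : T ⟶ Z) (s : T ⟶ S) (hz : z = (t ≫ l) ≫ m) (hz' : z = (t ≫ j) ≫ o) (hs : s = z ≫ a)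
    (hs' : s = (t ≫ j) ≫ o ≫ a) (v : Over.mk s ⟶ G₀) :
    trP hl f hf t (dbl (o ≫ a) j G₀ t s hs' v) = dbl o j G t z hz' (tr f hf (t ≫ l) z s hz hs v) := by
  subst hz'
  subst hs'
  have h1 : (dbl (o ≫ a) j G₀ t ((t ≫ j) ≫ o ≫ a) rfl).symm (dbl (o ≫ a) j G₀ t ((t ≫ j) ≫ o ≫ a) rfl v) = v :=
    MulEquiv.symm_apply_apply _ v
  exact congrArg (fun w => dbl o j G t ((t ≫ j) ≫ o) rfl (tr f hf (t ≫ l) ((t ≫ j) ≫ o) ((t ≫ j) ≫ o ≫ a) hz hs w)) h1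

lemma trP_nat (hl : l ≫ m = j ≫ o) (f : Red.bc (m ≫ a) G₀ ≅ Red.bc m G) (hf : IsMonHom f.hom) {T T' : Scheme.{u}}
    (t : T ⟶ V) (φ : T' ⟶ T) (t' : T' ⟶ V) (ht : φ ≫ t = t') (y : Over.mk t ⟶ Red.bc j (Red.bc (o ≫ a) G₀)) :
    trP hl f hf t' ((Over.homMk φ ht : Over.mk t' ⟶ Over.mk t) ≫ y) =
      (Over.homMk φ ht : Over.mk t' ⟶ Over.mk t) ≫ trP hl f hf t y := by
  subst ht
  obtain ⟨v, rfl⟩ := (dbl (o ≫ a) j G₀ t ((t ≫ j) ≫ o ≫ a) rfl).surjective y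
  have e1 : φ ≫ (t ≫ j) ≫ o ≫ a = ((φ ≫ t) ≫ j) ≫ o ≫ a := by simp only [Category.assoc]
  have e2 : φ ≫ (t ≫ j) ≫ o = ((φ ≫ t) ≫ j) ≫ o := by simp only [Category.assoc]
  have e3 : ∀ {T : Scheme.{u}} (t : T ⟶ V), (t ≫ j) ≫ o = (t ≫ l) ≫ m := fun t => by
    rw [Category.assoc, Category.assoc, hl]
  have e4 : ∀ {T : Scheme.{u}} (t : T ⟶ V), (t ≫ j) ≫ o ≫ a = ((t ≫ j) ≫ o) ≫ a := fun t => by
    simp only [Category.assoc]
  rw [← dbl_nat (o ≫ a) j G₀ t _ rfl φ (φ ≫ t) (((φ ≫ t) ≫ j) ≫ o ≫ a) rfl e1 rfl v,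
    trP_apply hl f hf (φ ≫ t) (((φ ≫ t) ≫ j) ≫ o) _ (e3 _) rfl (e4 _) rfl,
    trP_apply hl f hf t ((t ≫ j) ≫ o) _ (e3 _) rfl (e4 _) rfl,
    ← dbl_nat o j G t _ rfl φ (φ ≫ t) (((φ ≫ t) ≫ j) ≫ o) rfl e2 rfl]
  congr 1
  have e5 : φ ≫ t ≫ l = (φ ≫ t) ≫ l := by rw [Category.assoc]
  exact tr_nat f hf (t ≫ l) _ _ (e3 _) (e4 _) φ ((φ ≫ t) ≫ l) _ _ e5 e2 e1 (e3 _) (e4 _) v

/-- the transported isomorphism -/
theorem exists_iso (hl : l ≫ m = j ≫ o) (f : Red.bc (m ≫ a) G₀ ≅ Red.bc m G) (hf : IsMonHom f.hom) :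
    ∃ f' : Red.bc j (Red.bc (o ≫ a) G₀) ≅ Red.bc j (Red.bc o G), IsMonHom f'.hom ∧
      ∀ (T : Scheme.{u}) (t : T ⟶ V) (y : Over.mk t ⟶ Red.bc j (Red.bc (o ≫ a) G₀)),
        y ≫ f'.hom = trP hl f hf t y := by
  let X₁ := Red.bc j (Red.bc (o ≫ a) G₀)
  let X₂ := Red.bc j (Red.bc o G)
  let p : X₁ ⟶ X₂ := trP hl f hf X₁.hom (𝟙 X₁)
  let q : X₂ ⟶ X₁ := (trP hl f hf X₂.hom).symm (𝟙 X₂)
  have hp : ∀ (T : Scheme.{u}) (t : T ⟶ V) (y : Over.mk t ⟶ X₁), y ≫ p = trP hl f hf t y := by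
    intro T t y
    exact (trP_nat hl f hf X₁.hom y.left t (Over.w y) (𝟙 X₁)).symm.trans
      (congrArg (trP hl f hf t) (Category.comp_id y))
  have hq : ∀ (T : Scheme.{u}) (t : T ⟶ V) (y : Over.mk t ⟶ X₂), y ≫ q = (trP hl f hf t).symm y := by
    intro T t y
    apply (trP hl f hf t).injective
    rw [MulEquiv.apply_symm_apply]
    refine (trP_nat hl f hf X₂.hom y.left t (Over.w y) q).trans ?_
    refine (congrArg (fun r => (Over.homMk y.left (Over.w y) : Over.mk t ⟶ X₂) ≫ r)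
      (MulEquiv.apply_symm_apply (trP hl f hf X₂.hom) (𝟙 X₂))).trans (Category.comp_id y)
  refine ⟨⟨p, q, ?_, ?_⟩, ?_, hp⟩
  · exact (hq _ X₁.hom p).trans (MulEquiv.symm_apply_apply (trP hl f hf X₁.hom) (𝟙 X₁))
  · exact (hp _ X₂.hom q).trans (MulEquiv.apply_symm_apply (trP hl f hf X₂.hom) (𝟙 X₂))
  · refine Pts.isMonHom_of_points p fun X x y => ?_
    exact (hp _ X.hom (x * y)).trans ((map_mul (trP hl f hf X.hom) x y).trans
      (congrArg₂ (· * ·) (hp _ X.hom x).symm (hp _ X.hom y).symm))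

end Sq

/-- **`IsoInner` on points.** -/
theorem innerPt : InnerPt.{u} := by
  intro S Z _ a G₀ _ G _ hG₀ hG f hf L _ _ O o l hl
  obtain ⟨f', hf', hp⟩ := exists_iso hl f hf
  obtain ⟨g, hg, h, H⟩ := K544.IsoInner.isoInner L O (Red.bc (o ≫ a) G₀) (Red.bc o G)
    (Groth.Agent.Sga3B.RedBcAny636.isReductive_bc _ hG₀) (Groth.Agent.Sga3B.RedBcAny636.isReductive_bc _ hG) f' hf'
  have e0 : l ≫ gen Z ≫ a = (𝟙 _ ≫ genO O) ≫ o ≫ a := by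
    rw [Category.id_comp, ← Category.assoc, hl, Category.assoc]
  refine ⟨g, hg, (dbl (o ≫ a) (genO O) G₀ (𝟙 _) (l ≫ gen Z ≫ a) e0).symm h, ?_⟩
  intro T t z s hz hz' hs hs' v
  have e1 : s = (t ≫ genO O) ≫ o ≫ a := by
    rw [hs, hz']
    simp only [Category.assoc]
  apply (dbl o (genO O) G t z hz').injective
  rw [← trP_apply hl f hf t z s hz hz' hs e1 v, ← hp, H]
  set w := (Over.homMk t hs' : Over.mk s ⟶ Over.mk (l ≫ gen Z ≫ a)) ≫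
    (dbl (o ≫ a) (genO O) G₀ (𝟙 _) (l ≫ gen Z ≫ a) e0).symm h with hw
  have h1 : toUnit (Over.mk t) ≫ h = dbl (o ≫ a) (genO O) G₀ t s e1 w := by
    rw [hw]
    refine Eq.trans ?_ (dbl_nat (o ≫ a) (genO O) G₀ (𝟙 _) (l ≫ gen Z ≫ a) e0 t t s (Category.comp_id t) hs' e1 _).symm
    refine congrArg₂ (· ≫ ·) ?_ (MulEquiv.apply_symm_apply _ h).symm
    exact toUnit_unique _ _
  rw [h1]
  have h2 : ∀ y : Over.mk s ⟶ G₀, dbl (o ≫ a) (genO O) G₀ t s e1 y ≫ (Over.pullback (genO O)).map g.hom =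
      dbl o (genO O) G t z hz' (tr g hg (t ≫ genO O) z s hz' hs y) := by
    intro y
    change bcPt (genO O) _ t (t ≫ genO O) rfl (bcPt (o ≫ a) G₀ (t ≫ genO O) s e1 y) ≫ _ =
      bcPt (genO O) _ t (t ≫ genO O) rfl (bcPt o G (t ≫ genO O) z hz' _)
    rw [bcPt_comp, tr_apply, MulEquiv.apply_symm_apply]
  rw [← h2]
  congr 1
  rw [map_mul, map_mul, map_inv]

end K112.InnerPt
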